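import Cfsg.Agent.H577.GLB.StdLab
set_option linter.all false

/-!
# HUB S4536 / S4537: fixed labels and stabilisers in the standard model
-/

set_option autoImplicit false

namespace Cfsg.Agent.H577.GLB.Std

open MvPolynomial H614

/-- the number of `p'`-labels in the family of `t0` fixed by the translation by `a` -/
noncomputable def nfix (Q : ℤ) (M : ℕ) [NeZero M] (p : ℕ) {m n : ℕ} (t0 : LabZ Q M m n) (a : ZMod M) : ℕ :=
  Nat.card {t : LabZ Q M m n // POnly M p t.t ∧ SameFam Q M p t0.t t.t ∧ ∀ c, t.t (c + a) = t.t c}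

/-- the stabiliser of the family of `t0` in the linear characters of order prime to `p` -/
def Stab (Q : ℤ) (M : ℕ) [NeZero M] (p : ℕ) {m n : ℕ} (t0 : LabZ Q M m n) (a : ZMod M) : Prop :=
  TorZ Q M 1 a ∧ PReg M p a ∧ SameFam Q M p t0.t (fun c => t0.t (c - a))

/-- the strong stabiliser -/
def SF (Q : ℤ) (M : ℕ) [NeZero M] (p : ℕ) {m n : ℕ} (t0 : LabZ Q M m n) (a : ZMod M) : Prop :=
  Stab Q M p t0 a ∧ ∀ δ, PReg M p δ → 0 < ewt (eD Q M p δ) (t0.t δ) →
    ∃ j : ℕ, δ + a = ((Q : ZMod M) ^ (orderOf (Q : ZMod p))) ^ j * δ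

end Cfsg.Agent.H577.GLB.Std
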