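import Cfsg.Agent.H577.GLB.Lab
import Cfsg.Agent.H624.Sl.Defs
import Cfsg.Agent.H577.GLB.Clif
set_option linter.all false

/-!
# HUB S4536: families of characters, the kernel of the determinant

* `famSet θ p t₀` : the characters of `GL_n(F)` with label in the family of `t₀`;
* `slS F n` : the kernel of the determinant;
* `OnlyOn Q M δ₀ t` : all the nontrivial tuples of `t` are over the orbit of `δ₀`.
-/

set_option autoImplicit false

open Polynomial Cfsg
open scoped ComplexConjugate TensorProduct

namespace Cfsg.Agent.H577.GLB.Real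

open Cfsg.Agent.H614.GLn Cfsg.Agent.H577.GLB.Std

universe u v w

section
variable {F : Type u} [Field F] {K : Type w} [Field K] [Algebra F K]

/-- the characters with label in the family of `t₀` -/
def famSet (θ : K →*₀ ℂ) {M : ℕ} [NeZero M] (p : ℕ) {m n : ℕ} (t₀ : LabZ (Nat.card F) M m n) :
    Set (IrrCharacter (GL (Fin n) F)) :=
  {χ | ∃ t : LabZ (Nat.card F) M m n, IsLab θ M m n χ t ∧ SameFam (Nat.card F) M p t₀.t t.t}

/-- the kernel of the determinant -/
noncomputable def slS (F : Type u) [Field F] (n : ℕ) : Subgroup (GL (Fin n) F) :=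
  (Matrix.GeneralLinearGroup.det : GL (Fin n) F →* Fˣ).ker

instance slS_normal (n : ℕ) : (slS F n).Normal := by unfold slS; infer_instance

end

/-- all the nontrivial tuples are over the orbit of `δ₀` -/
def OnlyOn (Q : ℤ) (M : ℕ) (δ₀ : ZMod M) {m : ℕ} (t : ZMod M → Fin m → ℕ) : Prop :=
  ∀ δ, 0 < Std.bsz (t δ) → SameZ Q M δ₀ δ

end Cfsg.Agent.H577.GLB.Real
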